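import Groth.Agent.FlatMorQcDescend.Main
import Mathlib.RingTheory.Algebraic.LinearIndependent

/-!
# Amitsur's trick: large base fields make algebras Jacobson
-/

set_option autoImplicit false
set_option linter.style.haveILetI false
set_option backward.isDefEq.respectTransparency false
set_option maxHeartbeats 1000000

universe u

open CategoryTheory CategoryTheory.Limits AlgebraicGeometry Cardinal
open scoped TensorProduct

namespace Groth.Agent.FlatMorAmitsur

theorem isAlgebraic_of_card {K L : Type u} [Field K] [Field L] [Algebra K L] (s : Set L)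
    (hs : Algebra.adjoin K s = ⊤) (h : max (#s) ℵ₀ < #K) : Algebra.IsAlgebraic K L := by
  refine ⟨fun t => by_contra fun ht => ?_⟩
  have h1 := (Transcendental.linearIndependent_sub_inv (show Transcendental K t from ht)).cardinal_le_rank
  have h2 := Algebra.rank_adjoin_le (R := K) s
  rw [hs, Subalgebra.rank_top] at h2
  exact absurd (h1.trans h2) h.not_ge

variable {K B : Type u} [Field K] [CommRing B] [Algebra K B] (S : Set B) (hS : Algebra.adjoin K S = ⊤)
  (hK : max (#S) ℵ₀ < #K)

include hS hK in
theorem isAlgebraic_quotient (m : Ideal B) [m.IsMaximal] :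
    letI := Ideal.Quotient.field m
    Algebra.IsAlgebraic K (B ⧸ m) := by
  letI := Ideal.Quotient.field m
  refine isAlgebraic_of_card ((Ideal.Quotient.mkₐ K m) '' S) ?_ ((max_le_max mk_image_le le_rfl).trans_lt hK)
  rw [← AlgHom.map_adjoin, hS, Algebra.map_top, AlgHom.range_eq_top]
  exact Ideal.Quotient.mkₐ_surjective K m

include hS hK in
theorem isJacobsonRing : IsJacobsonRing B := by
  rw [isJacobsonRing_iff_prime_eq]
  intro P hP
  refine le_antisymm ?_ Ideal.le_jacobson
  intro f hf
  by_contra hfP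
  let Q := B ⧸ P
  let fbar : Q := Ideal.Quotient.mk P f
  have hne : fbar ≠ 0 := fun h => hfP (Ideal.Quotient.eq_zero_iff_mem.1 h)
  let T := Localization.Away fbar
  haveI : Nontrivial T := (IsLocalization.injective (S := T)
    (powers_le_nonZeroDivisors_of_noZeroDivisors hne)).nontrivial
  obtain ⟨m, hm⟩ := Ideal.exists_maximal T
  letI := Ideal.Quotient.field m
  let π : B →ₐ[K] T ⧸ m :=
    (Ideal.Quotient.mkₐ K m).comp ((IsScalarTower.toAlgHom K Q T).comp (Ideal.Quotient.mkₐ K P))
  have hu : IsUnit (π f) :=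
    (IsLocalization.map_units T (⟨fbar, Submonoid.mem_powers fbar⟩ : Submonoid.powers fbar)).map (Ideal.Quotient.mk m)
  let g : T ⧸ m := (π f)⁻¹
  have hgen : Algebra.adjoin K (π '' S ∪ {g}) = ⊤ := by
    refine eq_top_iff.2 fun z _ => ?_
    obtain ⟨z, rfl⟩ := Ideal.Quotient.mk_surjective z
    obtain ⟨⟨b, _, j, rfl⟩, hb⟩ := IsLocalization.surj (Submonoid.powers fbar) z
    obtain ⟨b, rfl⟩ := Ideal.Quotient.mk_surjective b
    have hπb : π b ∈ Algebra.adjoin K (π '' S ∪ {g}) := by
      have h0 : π b ∈ (Algebra.adjoin K S).map π := ⟨b, by rw [hS]; exact Algebra.mem_top, rfl⟩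
      rw [AlgHom.map_adjoin] at h0
      exact Algebra.adjoin_mono Set.subset_union_left h0
    have hz : Ideal.Quotient.mk m z = π b * g ^ j := by
      have h1 : Ideal.Quotient.mk m z * π f ^ j = π b := by
        rw [show π b = Ideal.Quotient.mk m (algebraMap Q T (Ideal.Quotient.mk P b)) from rfl, ← hb, map_mul,
          map_pow, map_pow]
        rfl
      rw [← h1, mul_assoc, ← mul_pow, mul_inv_cancel₀ hu.ne_zero, one_pow, mul_one]
    rw [hz]
    exact mul_mem hπb (pow_mem (Algebra.subset_adjoin (Set.mem_union_right (π '' S) (Set.mem_singleton g))) j)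
  have hcard : max (#(π '' S ∪ {g} : Set (T ⧸ m))) ℵ₀ < #K := by
    refine (max_le ((mk_union_le _ _).trans ?_) (le_max_right (#S) ℵ₀)).trans_lt hK
    refine (add_le_max _ _).trans (max_le (max_le (mk_image_le.trans (le_max_left _ _)) ?_) (le_max_right _ _))
    rw [mk_singleton]
    exact one_le_aleph0.trans (le_max_right _ _)
  haveI := isAlgebraic_of_card _ hgen hcard
  haveI : Algebra.IsIntegral K (T ⧸ m) := Algebra.IsAlgebraic.isIntegral
  haveI : Algebra.IsIntegral B (T ⧸ m) := ⟨fun z => IsIntegral.tower_top (Algebra.IsIntegral.isIntegral (R := K) z)⟩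
  have hmax : ((⊥ : Ideal (T ⧸ m)).comap (algebraMap B (T ⧸ m))).IsMaximal :=
    Ideal.isMaximal_comap_of_isIntegral_of_isMaximal (R := B) (⊥ : Ideal (T ⧸ m))
  have hle : P ≤ (⊥ : Ideal (T ⧸ m)).comap (algebraMap B (T ⧸ m)) := fun a ha => by
    show Ideal.Quotient.mk m (algebraMap Q T (Ideal.Quotient.mk P a)) ∈ (⊥ : Ideal (T ⧸ m))
    rw [Ideal.Quotient.eq_zero_iff_mem.2 ha, map_zero, map_zero]
    exact Ideal.zero_mem _
  have := Ideal.mem_sInf.1 hf (show _ ∈ {J : Ideal B | P ≤ J ∧ J.IsMaximal} from ⟨hle, hmax⟩)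
  exact hu.ne_zero this

theorem adjoin_range_includeLeft (k A L : Type u) [CommRing k] [CommRing A] [Field L] [Algebra k A] [Algebra k L] :
    letI : Algebra L (A ⊗[k] L) := Algebra.TensorProduct.rightAlgebra
    Algebra.adjoin L (Set.range fun a : A => a ⊗ₜ[k] (1 : L)) = ⊤ := by
  letI : Algebra L (A ⊗[k] L) := Algebra.TensorProduct.rightAlgebra
  refine eq_top_iff.2 fun z _ => ?_
  induction z using TensorProduct.induction_on with
  | zero => exact zero_mem _
  | tmul a c =>
    have : a ⊗ₜ[k] c = (a ⊗ₜ[k] (1 : L)) * algebraMap L (A ⊗[k] L) c := by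
      rw [Algebra.TensorProduct.right_algebraMap_apply, Algebra.TensorProduct.tmul_mul_tmul, mul_one, one_mul]
    rw [this]
    exact mul_mem (Algebra.subset_adjoin ⟨a, rfl⟩) (Subalgebra.algebraMap_mem _ c)
  | add p q hp hq => exact add_mem (hp Algebra.mem_top) (hq Algebra.mem_top)

/-- On an affine chart: closed points have algebraic residue fields. -/
theorem isAlgebraic_residueField {P : Scheme.{u}} {A : CommRingCat.{u}} [Algebra K A] (c : Spec A ⟶ P)
    [IsOpenImmersion c] (qq : P ⟶ Spec (CommRingCat.of K))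
    (hc : c ≫ qq = Spec.map (CommRingCat.ofHom (algebraMap K A))) (t : Spec A) (ρ : K →+* P.residueField (c t))
    (hρ : Spec.map (CommRingCat.ofHom ρ) = P.fromSpecResidueField (c t) ≫ qq)
    (ht : t.asIdeal.IsMaximal) (halg : letI := Ideal.Quotient.field t.asIdeal
      Algebra.IsAlgebraic K (A ⧸ t.asIdeal)) :
    letI := ρ.toAlgebra
    Algebra.IsAlgebraic K (P.residueField (c t)) := by
  letI := ρ.toAlgebra
  haveI := ht
  haveI hRF : Algebra.IsAlgebraic K t.asIdeal.ResidueField := by
    let e : (A ⧸ t.asIdeal) →ₐ[K] t.asIdeal.ResidueField :=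
      IsScalarTower.toAlgHom K (A ⧸ t.asIdeal) t.asIdeal.ResidueField
    have he : Function.Bijective e := Ideal.bijective_algebraMap_quotient_residueField t.asIdeal
    letI := Ideal.Quotient.field t.asIdeal
    haveI := halg
    exact (AlgEquiv.ofBijective e he).isAlgebraic
  let u : P.residueField (c t) ⟶ CommRingCat.of t.asIdeal.ResidueField :=
    c.residueFieldMap t ≫ (Scheme.Spec.residueFieldIso A t).hom
  have hu : CommRingCat.ofHom ρ ≫ u = CommRingCat.ofHom (algebraMap K t.asIdeal.ResidueField) := by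
    apply Spec.map_injective
    rw [Spec.map_comp, hρ, Spec.map_comp, Category.assoc,
      Scheme.Hom.SpecMap_residueFieldMap_fromSpecResidueField_assoc, hc,
      ← Scheme.Spec.map_residueFieldIso_inv_eq_fromSpecResidueField, Category.assoc, ← Spec.map_comp_assoc,
      Iso.inv_hom_id, Spec.map_id, Category.id_comp, ← Spec.map_comp, ← CommRingCat.ofHom_comp,
      ← IsScalarTower.algebraMap_eq]
  let e : P.residueField (c t) →ₐ[K] t.asIdeal.ResidueField :=
    { u.hom with commutes' := fun x => ConcreteCategory.congr_hom hu x }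
  exact Algebra.IsAlgebraic.of_injective e u.hom.injective

end Groth.Agent.FlatMorAmitsur
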